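import Groth.Agent.Proj16.DVRCrit
import Groth.Agent.CplFib6.Excellent
import Groth.Agent.CompleteNagata.Global
import Groth.Agent.NormCurve.Nagata
import Groth.Agent.CAlgOdd.NagataFT.Basic
import Groth.Prelude.Def_EGA4b

/-!
# Discrete valuation rings essentially of finite type with prescribed centre
-/

universe u

open IsLocalRing

namespace Groth.Agent.H1DvrEft

/-- An excellent local ring with a map to a field which is essentially of finite type and does not kill
the maximal ideal is dominated by a discrete valuation ring of that field, essentially of finite type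
over it. -/
theorem exists_dvr_dominating_eft (A L : Type u) [CommRing A] [IsNoetherianRing A] [IsLocalRing A]
    [Field L] [Algebra A L] [Algebra.EssFiniteType A L] (hA : EGA4.IsExcellent A)
    (h : ∃ a ∈ maximalIdeal A, algebraMap A L a ≠ 0) :
    ∃ V : ValuationSubring L, IsDiscreteValuationRing V ∧
      ∃ hV : ∀ a : A, algebraMap A L a ∈ V,
        IsLocalHom ((algebraMap A L).codRestrict V.toSubring hV) ∧
        ((algebraMap A L).codRestrict V.toSubring hV).EssFiniteType := by
  classical
  obtain ⟨V₀, hV₀, hloc⟩ := IsLocalRing.exists_factor_valuationRing (algebraMap A L)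
  have hc : ∀ a : A, algebraMap A L a ∈ V₀.nonunits ↔ a ∈ maximalIdeal A := by
    intro a
    rw [show algebraMap A L a = ((⟨_, hV₀ a⟩ : V₀) : L) from rfl,
      ValuationSubring.coe_mem_nonunits_iff, IsLocalRing.mem_maximalIdeal,
      IsLocalRing.mem_maximalIdeal, mem_nonunits_iff, mem_nonunits_iff, not_iff_not]
    exact ⟨fun h ↦ hloc.map_nonunit a h, fun h ↦ h.map ((algebraMap A L).codRestrict _ hV₀)⟩
  obtain ⟨a₀, ha₀, ha₀'⟩ := h
  obtain ⟨s, hs⟩ := IsNoetherian.noetherian (maximalIdeal A)
  obtain ⟨x, hx, hmax⟩ := s.exists_max_image (fun y => V₀.valuation (algebraMap A L y)) (by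
    by_contra h
    rw [Finset.not_nonempty_iff_eq_empty] at h
    rw [← hs, h, Finset.coe_empty, Submodule.span_empty, Submodule.mem_bot] at ha₀
    exact ha₀' (by rw [ha₀, map_zero]))
  have hx0 : algebraMap A L x ≠ 0 := by
    intro h0
    have hker : maximalIdeal A ≤ RingHom.ker (algebraMap A L) := by
      rw [← hs]
      refine Submodule.span_le.2 fun y hy => ?_
      have := hmax y hy
      rw [h0, map_zero, le_zero_iff, Valuation.zero_iff] at this
      exact this
    exact ha₀' (hker ha₀)
  let G : Finset L := Algebra.EssFiniteType.finset A L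
  let T : Finset L := (G.image fun g ↦ if g ∈ V₀ then g else g⁻¹) ∪
    s.image fun y => algebraMap A L y / algebraMap A L x
  have hT : ∀ z ∈ T, z ∈ V₀ := by
    intro z hz
    simp only [T, Finset.mem_union, Finset.mem_image] at hz
    rcases hz with ⟨g, -, rfl⟩ | ⟨y, hy, rfl⟩
    · split_ifs with h
      · exact h
      · exact (V₀.mem_or_inv_mem g).resolve_left h
    · rw [← ValuationSubring.valuation_le_one_iff, map_div₀]
      exact div_le_one_of_le₀ (hmax y hy) zero_le
  let B : Subalgebra A L := Algebra.adjoin A (T : Set L)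
  haveI : Algebra.FiniteType A B :=
    (Subalgebra.fg_iff_finiteType B).1 (Subalgebra.fg_adjoin_finset _)
  haveI : IsNoetherianRing B := Algebra.FiniteType.isNoetherianRing A B
  have hBV : ∀ b ∈ B, b ∈ V₀ := by
    let S' : Subalgebra A L := { V₀.toSubring with algebraMap_mem' := hV₀ }
    exact show B ≤ S' from Algebra.adjoin_le hT
  have hTC : ∀ z ∈ T, z ∈ B := fun z hz ↦ Algebra.subset_adjoin hz
  let Q : L → Prop := fun z ↦ ∃ a ∈ B, ∃ b ∈ B, b ≠ 0 ∧ z = a / b
  have hgen : ∀ z, Q z := by
    have h1 : ∀ a ∈ B, Q a := fun a ha ↦ ⟨a, ha, 1, B.one_mem, one_ne_zero, (div_one a).symm⟩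
    have hsub : ∀ z ∈ Algebra.adjoin A (G : Set L), Q z := fun z hz ↦ by
      induction hz using Algebra.adjoin_induction with
      | mem g hg =>
        have hg' : (if g ∈ V₀ then g else g⁻¹) ∈ B := hTC _
          (Finset.mem_union_left _ (Finset.mem_image.mpr ⟨g, hg, rfl⟩))
        split_ifs at hg' with h
        · exact h1 g hg'
        · refine ⟨1, B.one_mem, g⁻¹, hg', ?_, by simp⟩
          exact inv_ne_zero fun h0 ↦ h (h0 ▸ V₀.zero_mem)
      | algebraMap r => exact h1 _ (B.algebraMap_mem r)
      | add x y _ _ hx hy =>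
        obtain ⟨a, ha, b, hb, hb0, rfl⟩ := hx
        obtain ⟨c, hc, d, hd, hd0, rfl⟩ := hy
        exact ⟨a * d + b * c, B.add_mem (B.mul_mem ha hd) (B.mul_mem hb hc), b * d,
          B.mul_mem hb hd, mul_ne_zero hb0 hd0, div_add_div _ _ hb0 hd0⟩
      | mul x y _ _ hx hy =>
        obtain ⟨a, ha, b, hb, hb0, rfl⟩ := hx
        obtain ⟨c, hc, d, hd, hd0, rfl⟩ := hy
        exact ⟨a * c, B.mul_mem ha hc, b * d, B.mul_mem hb hd, mul_ne_zero hb0 hd0,
          div_mul_div_comm a b c d⟩
    intro z
    obtain ⟨s, hs, hsu, hzs⟩ := (Algebra.essFiniteType_cond_iff A L G).mp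
      Algebra.EssFiniteType.cond.choose_spec z
    obtain ⟨a, ha, b, hb, hb0, hxy⟩ := hsub _ hzs
    obtain ⟨c, hc, d, hd, hd0, hs'⟩ := hsub _ hs
    refine ⟨a * d, B.mul_mem ha hd, b * c, B.mul_mem hb hc, ?_, ?_⟩
    · refine mul_ne_zero hb0 fun h ↦ hsu.ne_zero ?_
      rw [hs', h, zero_div]
    · have hs0 : s ≠ 0 := hsu.ne_zero
      rw [← div_div_div_eq, ← hxy, ← hs', mul_div_assoc, div_self hs0, mul_one]
  have : IsFractionRing B L := IsFractionRing.of_field B L fun z ↦ by
    obtain ⟨a, ha, b, hb, -, rfl⟩ := hgen z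
    exact ⟨⟨a, ha⟩, ⟨b, hb⟩, rfl⟩
  have hNag : CAlg.IsNagata B := by
    obtain ⟨hN, -, hG, hJ⟩ := CplFib6.isExcellent_of_finiteType hA B
    exact CompleteNagata.isNagata_of_isQuasiExcellent B ⟨hN, hG, hJ⟩
  -- the centre and a height one prime inside it
  let g : B →+* V₀ := B.val.toRingHom.codRestrict V₀.toSubring fun b => hBV b b.2
  let cB : Ideal B := (maximalIdeal V₀).comap g
  have hcB : ∀ a : A, algebraMap A B a ∈ cB ↔ a ∈ maximalIdeal A := fun a =>
    (ValuationSubring.coe_mem_nonunits_iff (a := g (algebraMap A B a))).symm.trans (hc a)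
  have hxc : Ideal.span {algebraMap A B x} ≤ cB := by
    rw [Ideal.span_singleton_le_iff_mem, hcB, ← hs]
    exact Submodule.subset_span hx
  haveI hcBprime : cB.IsPrime := Ideal.IsPrime.comap g
  obtain ⟨P, hP, hPc⟩ := Ideal.exists_minimalPrimes_le hxc
  haveI hPprime : P.IsPrime := hP.1.1
  have hxP : algebraMap A B x ∈ P := hP.1.2 (Ideal.mem_span_singleton_self _)
  have hPm : ∀ a ∈ maximalIdeal A, algebraMap A B a ∈ P := by
    intro a ha
    suffices hle : maximalIdeal A ≤ P.comap (algebraMap A B) from hle ha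
    rw [← hs, Submodule.span_le]
    intro y hy
    have hyB : algebraMap A L y / algebraMap A L x ∈ B :=
      hTC _ (Finset.mem_union_right _ (Finset.mem_image_of_mem _ hy))
    have he : algebraMap A B y = ⟨_, hyB⟩ * algebraMap A B x :=
      Subtype.ext (div_mul_cancel₀ _ hx0).symm
    show algebraMap A B y ∈ P
    rw [he]
    exact P.mul_mem_left _ hxP
  have hPht : P.height ≤ 1 := Ideal.height_le_one_of_isPrincipal_of_mem_minimalPrimes _ P hP
  have hP0 : P ≠ ⊥ := fun h0 => hx0 (by
    rw [h0, Ideal.mem_bot] at hxP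
    exact congrArg Subtype.val hxP)
  -- normalisation
  let N := integralClosure B L
  haveI : Module.Finite B N := NormCurve.finite_integralClosure_of_nagata hNag L
  haveI : IsNoetherianRing N := IsNoetherianRing.of_finite B N
  haveI : Algebra.IsAlgebraic B L := IsLocalization.isAlgebraic L (nonZeroDivisors B)
  haveI : IsFractionRing N L := by
    refine IsFractionRing.of_field _ _ fun z => ?_
    obtain ⟨a, b, -, rfl⟩ := IsFractionRing.div_surjective (A := B) z
    exact ⟨algebraMap B N a, algebraMap B N b, rfl⟩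
  haveI : IsIntegrallyClosed N := by
    rw [isIntegrallyClosed_iff L]
    intro z hz
    exact ⟨⟨z, isIntegral_trans (R := B) z hz⟩, rfl⟩
  haveI : Algebra.IsIntegral B N := inferInstance
  haveI : FaithfulSMul B N := (faithfulSMul_iff_algebraMap_injective B N).2 fun a b h =>
    Subtype.ext (congrArg (fun w : N => (w : L)) h)
  obtain ⟨P', -, hP'p, hP'⟩ := Ideal.exists_ideal_over_prime_of_isIntegral P (⊥ : Ideal N) (by
    intro b hb
    rw [Ideal.mem_comap, Ideal.mem_bot, ← map_zero (algebraMap B N)] at hb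
    rw [FaithfulSMul.algebraMap_injective B N hb]
    exact P.zero_mem)
  haveI := hP'p
  have hP'0 : P' ≠ ⊥ := fun h0 => hP0 (by
    rw [← hP', h0, ← RingHom.ker_eq_comap_bot]
    exact (RingHom.injective_iff_ker_eq_bot _).1 (FaithfulSMul.algebraMap_injective B N))
  have hP'ht : P'.height ≤ 1 := by
    refine (Ideal.height_le_iff (n := 1)).2 fun Q hQp hQ => ?_
    haveI := hQp
    obtain ⟨w, hwP, hwQ⟩ := SetLike.exists_of_lt hQ
    have hlt : Q.comap (algebraMap B N) < P := hP' ▸
      Ideal.comap_lt_comap_of_integral_mem_sdiff hQ.le ⟨hwP, hwQ⟩ (Algebra.IsIntegral.isIntegral w)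
    haveI : (Q.comap (algebraMap B N)).IsPrime := Ideal.IsPrime.comap _
    have h0 : (Q.comap (algebraMap B N)).height < 1 := (Ideal.height_le_iff (n := 1)).1 hPht _ inferInstance hlt
    rw [ENat.lt_one_iff_eq_zero, Ideal.height_eq_zero_iff_eq_bot] at h0
    rw [Ideal.eq_bot_of_comap_eq_bot h0, Ideal.height_bot]
    exact zero_lt_one
  haveI hdvr := CAlgOdd.NagataFT.isDVR_atPrime P' hP'ht hP'0
  let W := Localization.AtPrime P'
  letI : Algebra W L := (IsLocalization.lift (M := P'.primeCompl) (S := W) (g := algebraMap N L)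
    fun y => isUnit_iff_ne_zero.2 fun h0 => y.2 (by
      rw [← map_zero (algebraMap N L)] at h0
      rw [IsFractionRing.injective N L h0]
      exact P'.zero_mem)).toAlgebra
  haveI : IsScalarTower N W L := IsScalarTower.of_algebraMap_eq' (IsLocalization.lift_comp _).symm
  haveI : IsFractionRing W L :=
    IsFractionRing.isFractionRing_of_isDomain_of_isLocalization P'.primeCompl W L
  -- the valuation subring
  let R₀ : Subring L := RingHom.range (R := W) (algebraMap W L : W →+* L)
  let V : ValuationSubring L :=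
    { toSubring := R₀
      mem_or_inv_mem' := fun z => by
        show z ∈ R₀ ∨ z⁻¹ ∈ R₀
        rcases ValuationRing.isInteger_or_isInteger W z with ⟨w, hw⟩ | ⟨w, hw⟩
        · exact Or.inl ⟨w, hw⟩
        · exact Or.inr ⟨w, hw⟩ }
  let e : W →+* V := (algebraMap W L).codRestrict V.toSubring fun w => ⟨w, rfl⟩
  have he : Function.Bijective e := ⟨fun a b hab => IsFractionRing.injective W L (congrArg Subtype.val hab),
    fun ⟨z, w, hw⟩ => ⟨w, Subtype.ext hw⟩⟩
  have hVD : IsDiscreteValuationRing V :=
    IsDiscreteValuationRing.RingEquivClass.isDiscreteValuationRing (RingEquiv.ofBijective e he)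
  have htow : ∀ a : A, algebraMap W L (algebraMap N W (algebraMap B N (algebraMap A B a))) = algebraMap A L a :=
    fun a => by
      rw [← IsScalarTower.algebraMap_apply N W L]
      rfl
  have hV : ∀ a : A, algebraMap A L a ∈ V := fun a => ⟨_, htow a⟩
  have hfac : (algebraMap A L).codRestrict V.toSubring hV =
      e.comp ((algebraMap N W).comp ((algebraMap B N).comp (algebraMap A B))) :=
    RingHom.ext fun a => Subtype.ext (htow a).symm
  refine ⟨V, hVD, hV, ⟨fun a ha => ?_⟩, ?_⟩
  · rw [hfac] at ha
    have h1 : IsUnit (algebraMap N W (algebraMap B N (algebraMap A B a))) := by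
      have h2 := ha.map (RingEquiv.ofBijective e he).symm
      exact (congrArg IsUnit ((RingEquiv.ofBijective e he).symm_apply_apply _)).mp h2
    by_contra hn
    refine (IsLocalRing.mem_maximalIdeal _).1 ((IsLocalization.AtPrime.to_map_mem_maximal_iff W P' _).2 ?_) h1
    have := hPm a ((IsLocalRing.mem_maximalIdeal a).2 hn)
    rwa [← hP'] at this
  · rw [hfac]
    have hef : RingHom.EssFiniteType (R := W) (S := V) e := by
      have h1 := RingHom.FiniteType.of_surjective (A := W) (B := V) e he.2
      exact h1.essFiniteType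
    refine RingHom.EssFiniteType.comp (R := A) (S := W) (T := V) (g := e) ?_ hef
    have h1 : RingHom.EssFiniteType (R := A) (S := B) (algebraMap A B) :=
      RingHom.essFiniteType_algebraMap.2 inferInstance
    have h2 : RingHom.EssFiniteType (R := B) (S := N) (algebraMap B N) :=
      RingHom.essFiniteType_algebraMap.2 inferInstance
    have h3 : RingHom.EssFiniteType (R := N) (S := W) (algebraMap N W) :=
      RingHom.essFiniteType_algebraMap.2 (Algebra.EssFiniteType.of_isLocalization W P'.primeCompl)
    exact (h1.comp h2).comp h3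

end Groth.Agent.H1DvrEft
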