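import Groth.Agent.H1DvrEft.Core

/-!
# Specializations realised by discrete valuation rings essentially of finite type over an excellent base
-/

universe u

open CategoryTheory CategoryTheory.Limits AlgebraicGeometry

namespace Groth.Agent.H1DvrEft

theorem isLocallyNoetherian_of_excellent {S : Scheme.{u}} (hS : ∀ U : S.affineOpens, EGA4.IsExcellent Γ(S, U.1)) :
    IsLocallyNoetherian S :=
  ⟨fun U => (hS U).1⟩

/-- The local rings of a scheme locally of finite type over an excellent one are excellent. -/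
theorem isExcellent_stalk {S P : Scheme.{u}} (hS : ∀ U : S.affineOpens, EGA4.IsExcellent Γ(S, U.1))
    (q : P ⟶ S) [LocallyOfFiniteType q] (z : P) : EGA4.IsExcellent (P.presheaf.stalk z) := by
  obtain ⟨_, ⟨U, hU, rfl⟩, hzU, -⟩ :=
    S.isBasis_affineOpens.exists_subset_of_mem_open (Set.mem_univ (q z)) isOpen_univ
  obtain ⟨V, hV, hzV, hVU⟩ := exists_isAffineOpen_mem_and_subset (U := q ⁻¹ᵁ U) (x := z) hzU
  let φ := q.appLE U V hVU
  letI : Algebra Γ(S, U) Γ(P, V) := φ.hom.toAlgebra
  haveI : Algebra.FiniteType Γ(S, U) Γ(P, V) :=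
    LocallyOfFiniteType.finiteType_appLE q hU hV hVU
  have hE : EGA4.IsExcellent Γ(P, V) := CplFib6.isExcellent_of_finiteType (hS ⟨U, hU⟩) Γ(P, V)
  letI : Algebra Γ(P, V) (P.presheaf.stalk z) := TopCat.Presheaf.algebra_section_stalk P.presheaf ⟨z, hzV⟩
  haveI := hV.isLocalization_stalk ⟨z, hzV⟩
  exact CplFib6.isExcellent_localization hE (hV.primeIdealOf ⟨z, hzV⟩).asIdeal.primeCompl (P.presheaf.stalk z)

/-- A non-trivial specialization in a scheme locally of finite type over an excellent one is the trace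
of a discrete valuation ring essentially of finite type over the base. -/
theorem exists_dvr_path_eft {S P W : Scheme.{u}} (hS : ∀ U : S.affineOpens, EGA4.IsExcellent Γ(S, U.1))
    (q : P ⟶ S) [LocallyOfFiniteType q] (p : W ⟶ P) [LocallyOfFiniteType p] {x : W} {z : P}
    (hsp : p x ⤳ z) (hne : z ≠ p x) :
    ∃ (A : ValuationSubring (W.residueField x)) (h : Spec (CommRingCat.of A) ⟶ P),
      IsDiscreteValuationRing A ∧ h (IsLocalRing.closedPoint A) = z ∧
      Spec.map (CommRingCat.ofHom A.subtype) ≫ h = W.fromSpecResidueField x ≫ p ∧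
      ∃ (U : S.affineOpens) (φ : Γ(S, U.1) ⟶ CommRingCat.of A),
        Spec.map φ ≫ U.2.fromSpec = h ≫ q ∧ φ.hom.EssFiniteType := by
  haveI := isLocallyNoetherian_of_excellent hS
  haveI : IsLocallyNoetherian P := LocallyOfFiniteType.isLocallyNoetherian q
  let ψ := Proj16.specMapResidue (p := p) hsp
  letI : Algebra (P.presheaf.stalk z) (W.residueField x) := ψ.hom.toAlgebra
  haveI : Algebra.EssFiniteType (P.presheaf.stalk z) (W.residueField x) :=
    RingHom.essFiniteType_algebraMap.mp (Proj16.essFiniteType_specMapResidue hsp)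
  obtain ⟨V, hV, hVA, hloc, heft⟩ := exists_dvr_dominating_eft (P.presheaf.stalk z) (W.residueField x)
    (isExcellent_stalk hS q z) (Proj16.exists_maximalIdeal_ne_zero hsp hne)
  let γ : P.presheaf.stalk z ⟶ CommRingCat.of V :=
    CommRingCat.ofHom (ψ.hom.codRestrict V.toSubring hVA)
  obtain ⟨_, ⟨U, hU, rfl⟩, hzU, -⟩ :=
    S.isBasis_affineOpens.exists_subset_of_mem_open (Set.mem_univ (q z)) isOpen_univ
  refine ⟨V, Spec.map γ ≫ P.fromSpecStalk z, hV, ?_, ?_, ⟨U, hU⟩,
    S.presheaf.germ U (q z) hzU ≫ q.stalkMap z ≫ γ, ?_, ?_⟩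
  · simp only [Scheme.Hom.comp_base, TopCat.coe_comp, Function.comp_apply]
    have hcl : Spec.map γ (IsLocalRing.closedPoint V) = IsLocalRing.closedPoint _ :=
      haveI : IsLocalHom γ.hom := hloc
      IsLocalRing.comap_closedPoint γ.hom
    rw [hcl, Scheme.fromSpecStalk_closedPoint]
  · rw [← Spec.map_comp_assoc, ← Proj16.specMapResidue_fromSpecStalk hsp]
    rfl
  · rw [Spec.map_comp, Spec.map_comp, Category.assoc, Category.assoc, Category.assoc,
      ← Scheme.SpecMap_stalkMap_fromSpecStalk]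
    congr 2
    exact (hU.fromSpecStalk_eq_fromSpecStalk hzU)
  · rw [CommRingCat.hom_comp, CommRingCat.hom_comp]
    letI : Algebra Γ(S, U) (S.presheaf.stalk (q z)) := TopCat.Presheaf.algebra_section_stalk S.presheaf ⟨q z, hzU⟩
    haveI := hU.isLocalization_stalk ⟨q z, hzU⟩
    refine RingHom.EssFiniteType.comp ?_ (RingHom.EssFiniteType.comp (LocallyOfFiniteType.stalkMap q z) heft)
    exact RingHom.essFiniteType_algebraMap.2
      (Algebra.EssFiniteType.of_isLocalization (S.presheaf.stalk (q z)) (hU.primeIdealOf ⟨q z, hzU⟩).asIdeal.primeCompl)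

end Groth.Agent.H1DvrEft
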